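import Cfsg.Agent.H80.Conj
import Cfsg.Agent.ClassicalGeometry.WittQuad
import Cfsg.Agent.S0749

/-!
# Conjugacy of involutions in symplectic and orthogonal groups in characteristic two (helper80)

`F` a finite field of characteristic two (or perfect).

* `conj_symp` : `B` nondegenerate alternating, `t, s` isometries with square 1, of the same rank
  `rank (t - 1)`, and `x ↦ B x (t x)` vanishes iff `x ↦ B x (s x)` does; then `t`, `s` are
  conjugate by an isometry;
* `conj_quad` : the same for a quadratic form with nondegenerate polar form.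
-/

set_option autoImplicit false
set_option linter.unusedSectionVars false

namespace Cfsg.Agent.H80

open Module

variable {F V : Type*} [Field F] [AddCommGroup V] [Module F V] [FiniteDimensional F V]

/-- matching families for `t` and `s`. -/
theorem exists_families {B : LinearMap.BilinForm F V} {t s : V →ₗ[F] V} (h2 : (2 : F) = 0)
    (hsq : ∀ a : F, ∃ c : F, c * c = a) (hS : LinearMap.IsSymm B) (hnd : B.Nondegenerate)
    (ht : Sq B t) (hs : Sq B s)
    (hr : finrank F (LinearMap.range (nil t)) = finrank F (LinearMap.range (nil s)))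
    (ha : (∀ x, form B t x x = 0) ↔ ∀ x, form B s x x = 0) :
    ∃ (n : ℕ) (v w : Fin n → V), (∀ i j, form B t (v i) (v j) = form B s (w i) (w j)) ∧
      (LinearIndependent F fun i => nil t (v i)) ∧ (LinearIndependent F fun i => nil s (w i)) ∧
      finrank F (LinearMap.range (nil t)) = n := by
  by_cases hal : ∀ x, form B t x x = 0
  · obtain ⟨r, hr1, v, hv⟩ := exists_symplectic_eq hS hnd ht hal
    obtain ⟨r', hr2, w, hw⟩ := exists_symplectic_eq hS hnd hs (ha.1 hal)
    have hrr : r = r' := by omega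
    subst hrr
    have l1 := linearIndependent_perm (fun i => Sum.swap_swap i) hv
    have l2 := linearIndependent_perm (fun i => Sum.swap_swap i) hw
    refine ⟨r + r, v ∘ finSumFinEquiv.symm, w ∘ finSumFinEquiv.symm, ?_, ?_, ?_, by omega⟩
    · intro i j
      simp only [Function.comp_apply]
      rw [hv, hw]
    · exact l1.comp _ finSumFinEquiv.symm.injective
    · exact l2.comp _ finSumFinEquiv.symm.injective
  · have hal' : ∃ x, form B s x x ≠ 0 := by
      by_contra hcon
      push Not at hcon
      exact hal (ha.2 hcon)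
    push Not at hal
    obtain ⟨v, hv⟩ := exists_orthonormal_two h2 hsq hS hnd ht hal _ le_rfl
    obtain ⟨w, hw⟩ := exists_orthonormal_two h2 hsq hS hnd hs hal' _ hr.le
    refine ⟨_, v, w, ?_, ?_, ?_, rfl⟩
    · intro i j
      rw [hv, hw]
    · exact linearIndependent_perm (τ := id) (fun _ => rfl) hv
    · exact linearIndependent_perm (τ := id) (fun _ => rfl) hw

/-- **Conjugacy in the isometry group of an alternating form.** -/
theorem conj_symp {B : LinearMap.BilinForm F V} {t s : V →ₗ[F] V} (h2 : (2 : F) = 0)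
    (hsq : ∀ a : F, ∃ c : F, c * c = a) (hA : B.IsAlt) (hnd : B.Nondegenerate)
    (ht : Sq B t) (hs : Sq B s)
    (hr : finrank F (LinearMap.range (nil t)) = finrank F (LinearMap.range (nil s)))
    (ha : (∀ x, B x (t x) = 0) ↔ ∀ x, B x (s x) = 0) :
    ∃ g : V ≃ₗ[F] V, (∀ u v, B (g u) (g v) = B u v) ∧ ∀ x, g (t x) = s (g x) := by
  have hself : ∀ x, B x x = 0 := fun x => hA.self_eq_zero x
  have hft : ∀ x, form B t x x = B x (t x) := fun x => by
    rw [form_apply, nil_apply, map_sub, hself, sub_zero]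
  have hfs : ∀ x, form B s x x = B x (s x) := fun x => by
    rw [form_apply, nil_apply, map_sub, hself, sub_zero]
  have hS : LinearMap.IsSymm B := by
    constructor
    intro x y
    have h1 := hA.neg_eq x y
    rw [RingHom.id_apply, ← h1]
    have : B y x + B y x = 0 := by rw [← two_mul, h2, zero_mul]
    have h3 : B x y + B x y = 0 := by rw [← two_mul, h2, zero_mul]
    linear_combination h3
  obtain ⟨n, v, w, hvw, l1, l2, hn⟩ := exists_families h2 hsq hS hnd ht hs hr (by
    simp only [hft, hfs]; exact ha)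
  have hG : ∀ i j, B (nil s (w i)) (nil s (w j)) = B (nil t (v i)) (nil t (v j)) := by
    intro i j
    rw [← hs.adj, ← ht.adj, nil_nil h2 hs.sq, nil_nil h2 ht.sq, map_zero, map_zero]
  obtain ⟨φ, hφ, hφi⟩ := exists_map_family l1 l2 hG
  obtain ⟨g, hg, hgφ⟩ := Cfsg.Agent.S0749.result B hnd hA _ _ φ hφ
  refine ⟨g, hg, fun x => ?_⟩
  have hgi : ∀ i, g (nil t (v i)) = nil s (w i) := fun i => by
    rw [← hφi, ← hgφ]
  exact intertwine hnd.1 ht hs (mem_span_of_card l1 (by rw [hn, Fintype.card_fin]))
    (mem_span_of_card l2 (by rw [← hr, hn, Fintype.card_fin])) hvw g.toLinearMap hg hgi x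

/-- `Q (t x - x) = - B x (t x - x)`. -/
theorem quad_nil (Q : QuadraticForm F V) {t : V →ₗ[F] V} (ht : ∀ x, Q (t x) = Q x) (x : V) :
    Q (nil t x) = - form (QuadraticMap.polarBilin Q) t x x := by
  have h1 := ClassicalGeometry.WittQuad.form_add Q (nil t x) x
  have h3 : nil t x + x = t x := by rw [nil_apply]; abel
  rw [h3, ht, ClassicalGeometry.WittQuad.polar_comm'] at h1
  rw [form_apply]
  linear_combination -h1

/-- isometries of `Q` preserve the polar form -/
theorem Sq.of_quad (Q : QuadraticForm F V) {t : V →ₗ[F] V} (ht : ∀ x, Q (t x) = Q x)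
    (ht2 : ∀ x, t (t x) = x) : Sq (QuadraticMap.polarBilin Q) t :=
  ⟨fun x y => ClassicalGeometry.WittQuad.polar_map Q t (map_add t) ht x y, ht2⟩

/-- **Conjugacy in the isometry group of a quadratic form.** -/
theorem conj_quad (Q : QuadraticForm F V) (hnd : (QuadraticMap.polarBilin Q).Nondegenerate)
    {t s : V →ₗ[F] V} (h2 : (2 : F) = 0) (hsq : ∀ a : F, ∃ c : F, c * c = a)
    (ht : ∀ x, Q (t x) = Q x) (ht2 : ∀ x, t (t x) = x)
    (hs : ∀ x, Q (s x) = Q x) (hs2 : ∀ x, s (s x) = x)
    (hr : finrank F (LinearMap.range (nil t)) = finrank F (LinearMap.range (nil s)))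
    (ha : (∀ x, Q (nil t x) = 0) ↔ ∀ x, Q (nil s x) = 0) :
    ∃ g : V ≃ₗ[F] V, (∀ v, Q (g v) = Q v) ∧ ∀ x, g (t x) = s (g x) := by
  set B := QuadraticMap.polarBilin Q with hB
  have hst : Sq B t := Sq.of_quad Q ht ht2
  have hss : Sq B s := Sq.of_quad Q hs hs2
  have hS : LinearMap.IsSymm B := by
    constructor
    intro x y
    rw [RingHom.id_apply, hB, ClassicalGeometry.WittQuad.polar_comm']
  have hft : ∀ x, form B t x x = 0 ↔ Q (nil t x) = 0 := fun x => by
    rw [quad_nil Q ht, neg_eq_zero]
  have hfs : ∀ x, form B s x x = 0 ↔ Q (nil s x) = 0 := fun x => by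
    rw [quad_nil Q hs, neg_eq_zero]
  obtain ⟨n, v, w, hvw, l1, l2, hn⟩ := exists_families h2 hsq hS hnd hst hss hr (by
    simp only [hft, hfs]; exact ha)
  obtain ⟨g, hg, hgi⟩ := ClassicalGeometry.WittQuad.extend_family Q hnd n
    (fun i => nil t (v i)) (fun i => nil s (w i)) l1 l2
    (fun i => by rw [quad_nil Q ht, quad_nil Q hs, ← hB, hvw])
    (fun i j => by
      rw [← hB, ← hss.adj, ← hst.adj, nil_nil h2 hs2, nil_nil h2 ht2, map_zero, map_zero])
  refine ⟨g, hg, fun x => ?_⟩
  exact intertwine hnd.1 hst hss (mem_span_of_card l1 (by rw [hn, Fintype.card_fin]))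
    (mem_span_of_card l2 (by rw [← hr, hn, Fintype.card_fin])) hvw g.toLinearMap
    (fun x y => ClassicalGeometry.WittQuad.polar_map Q g (map_add g) hg x y) hgi x

end Cfsg.Agent.H80
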