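import Cfsg.Prelude.Def_ClassicalGeometry
import Cfsg.Agent.H80.TwoForms
import Cfsg.Agent.ClassicalGeometry.SympBasic

/-!
# Involutions of `Sp_2m(F)`, `F` finite of characteristic two (helper80)

* `rank_sub_one` : the rank of the matrix `A - 1`;
* `card_isotropic` : the number of `v` with `f(v, t v) = 0`;
* `conj_of_rank` : conjugacy.
-/

set_option autoImplicit false
set_option linter.unusedSectionVars false

namespace Cfsg.Agent.H80

open Module Matrix

section Rank

variable {ι : Type*} [Fintype ι] [DecidableEq ι] {F : Type*} [Field F]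

theorem nil_mulVecLin (A : Matrix ι ι F) : nil (Matrix.mulVecLin A) = Matrix.mulVecLin (A - 1) := by
  ext x i
  simp [nil_apply]

theorem rank_sub_one (A : Matrix ι ι F) :
    (A - 1).rank = finrank F (LinearMap.range (nil (Matrix.mulVecLin A))) := by
  rw [nil_mulVecLin]
  rfl

/-- every element of a finite field of characteristic two is a square -/
theorem exists_sq_two [Finite F] (h2 : (2 : F) = 0) (a : F) : ∃ c : F, c * c = a := by
  have : CharP F 2 := CharTwo.of_one_ne_zero_of_two_eq_zero one_ne_zero h2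
  obtain ⟨c, hc⟩ := FiniteField.isSquare_of_char_two (ringChar.eq F 2) a
  exact ⟨c, hc.symm⟩

end Rank

/-! ### The size of the zero set of `x ↦ b x x` -/

/-- A map `φ : V → F` with `φ (x + y) = φ x + φ y`, `φ (c x) = c ^ 2 φ x` over a finite field of
characteristic two vanishes on all of `V` or on a set of `|V| / q` elements. -/
theorem card_zero_set {F V : Type*} [Field F] [Fintype F] [AddCommGroup V] [Module F V]
    (h2 : (2 : F) = 0)
    (φ : V → F) (hadd : ∀ x y, φ (x + y) = φ x + φ y) (hsm : ∀ (c : F) x, φ (c • x) = c * c * φ x) :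
    (∀ x, φ x = 0) ∨ Nat.card {x : V // φ x = 0} * Fintype.card F = Nat.card V := by
  by_cases h : ∀ x, φ x = 0
  · exact Or.inl h
  · right
    push Not at h
    obtain ⟨x0, hx0⟩ := h
    set ψ : V →+ F := AddMonoidHom.mk' φ hadd with hψ
    have hsurj : Function.Surjective ψ := by
      intro a
      obtain ⟨c, hc⟩ := exists_sq_two h2 (a / φ x0)
      refine ⟨c • x0, ?_⟩
      rw [hψ, AddMonoidHom.mk'_apply, hsm, hc, div_mul_cancel₀ _ hx0]
    have h1 : Nat.card ψ.ker * ψ.ker.index = Nat.card V := AddSubgroup.card_mul_index _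
    have h3 : ψ.ker.index = Fintype.card F := by
      rw [AddSubgroup.index_ker, AddMonoidHom.range_eq_top.2 hsurj]
      rw [Nat.card_congr AddSubgroup.topEquiv.toEquiv, Nat.card_eq_fintype_card]
    rw [h3] at h1
    exact h1

section Symp

variable {F : Type*} [Field F] [Fintype F] [CharP F 2] {m : ℕ}

theorem two_zero : (2 : F) = 0 := by
  have := CharP.cast_eq_zero F 2
  simpa using this

/-- the linear map of an element of the symplectic group -/
theorem sq_symp {a : Matrix.symplecticGroup (Fin m) F} (ha : a ^ 2 = 1) :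
    Sq (ClassicalGeometry.SympBasic.sympBilin m F)
      (Matrix.mulVecLin (a : Matrix (Fin m ⊕ Fin m) (Fin m ⊕ Fin m) F)) := by
  refine ⟨fun x y => ?_, fun x => ?_⟩
  · rw [Matrix.mulVecLin_apply, Matrix.mulVecLin_apply,
      ClassicalGeometry.SympBasic.sympBilin_apply, ClassicalGeometry.SympBasic.sympBilin_apply,
      ClassicalGeometry.SympBasic.sympForm_mulVec a.2]
  · rw [Matrix.mulVecLin_apply, Matrix.mulVecLin_apply,
      ← ClassicalGeometry.SympBasic.coe_mul_mulVec, ← sq, ha]
    simp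

theorem symm_symp : LinearMap.IsSymm (ClassicalGeometry.SympBasic.sympBilin m F) := by
  constructor
  intro x y
  rw [RingHom.id_apply, ClassicalGeometry.SympBasic.sympBilin_apply,
    ClassicalGeometry.SympBasic.sympBilin_apply, ClassicalGeometry.SympBasic.sympForm_swap]
  have h3 : sympForm m F y x + sympForm m F y x = 0 := by rw [← two_mul, two_zero, zero_mul]
  linear_combination -h3

theorem form_self (a : Matrix.symplecticGroup (Fin m) F) (x : Fin m ⊕ Fin m → F) :
    form (ClassicalGeometry.SympBasic.sympBilin m F)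
      (Matrix.mulVecLin (a : Matrix (Fin m ⊕ Fin m) (Fin m ⊕ Fin m) F)) x x
      = sympForm m F x ((a : Matrix (Fin m ⊕ Fin m) (Fin m ⊕ Fin m) F) *ᵥ x) := by
  rw [form_apply, nil_apply, map_sub, ClassicalGeometry.SympBasic.sympBilin_apply,
    ClassicalGeometry.SympBasic.sympBilin_apply, ClassicalGeometry.SympBasic.sympForm_self,
    sub_zero, Matrix.mulVecLin_apply]

/-- The dichotomy for the set of `v` with `f(v, t v) = 0`. -/
theorem card_isotropic {a : Matrix.symplecticGroup (Fin m) F} (ha : a ^ 2 = 1) :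
    (∀ v, sympForm m F v ((a : Matrix (Fin m ⊕ Fin m) (Fin m ⊕ Fin m) F) *ᵥ v) = 0) ∨
    Nat.card {v : Fin m ⊕ Fin m → F //
      sympForm m F v ((a : Matrix (Fin m ⊕ Fin m) (Fin m ⊕ Fin m) F) *ᵥ v) = 0}
        * Fintype.card F = Nat.card (Fin m ⊕ Fin m → F) := by
  have hsq := sq_symp ha
  have hsym := hsq.form_symm symm_symp
  have hsy : ∀ x y, form (ClassicalGeometry.SympBasic.sympBilin m F)
      (Matrix.mulVecLin (a : Matrix (Fin m ⊕ Fin m) (Fin m ⊕ Fin m) F)) x y
      = form (ClassicalGeometry.SympBasic.sympBilin m F)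
      (Matrix.mulVecLin (a : Matrix (Fin m ⊕ Fin m) (Fin m ⊕ Fin m) F)) y x := fun x y => by
    have := hsym.eq x y
    simpa using this
  apply card_zero_set two_zero
    (fun v => sympForm m F v ((a : Matrix (Fin m ⊕ Fin m) (Fin m ⊕ Fin m) F) *ᵥ v))
  · intro x y
    simp only [← form_self]
    rw [map_add, map_add, LinearMap.add_apply, LinearMap.add_apply, hsy y x]
    have h3 : form (ClassicalGeometry.SympBasic.sympBilin m F)
      (Matrix.mulVecLin (a : Matrix (Fin m ⊕ Fin m) (Fin m ⊕ Fin m) F)) x y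
      + form (ClassicalGeometry.SympBasic.sympBilin m F)
      (Matrix.mulVecLin (a : Matrix (Fin m ⊕ Fin m) (Fin m ⊕ Fin m) F)) x y = 0 := by
      rw [← two_mul, two_zero, zero_mul]
    linear_combination h3
  · intro c x
    simp only [← form_self]
    rw [map_smul, LinearMap.map_smul₂, smul_smul, smul_eq_mul]

/-- If `f(v, t v) = 0` for all `v`, the rank of `t - 1` is even. -/
theorem even_rank {a : Matrix.symplecticGroup (Fin m) F} (ha : a ^ 2 = 1)
    (h : ∀ v, sympForm m F v ((a : Matrix (Fin m ⊕ Fin m) (Fin m ⊕ Fin m) F) *ᵥ v) = 0) :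
    Even ((a : Matrix (Fin m ⊕ Fin m) (Fin m ⊕ Fin m) F) - 1).rank := by
  obtain ⟨r, hr, -⟩ := exists_symplectic_eq symm_symp
    ClassicalGeometry.SympBasic.sympBilin_nondegenerate (sq_symp ha)
    (fun x => by rw [form_self]; exact h x)
  rw [rank_sub_one, hr]
  exact even_two_mul r

/-- conjugacy from rank and type. -/
theorem conj_of_rank {a b : Matrix.symplecticGroup (Fin m) F} (ha : a ^ 2 = 1) (hb : b ^ 2 = 1)
    (hr : ((a : Matrix (Fin m ⊕ Fin m) (Fin m ⊕ Fin m) F) - 1).rank
      = ((b : Matrix (Fin m ⊕ Fin m) (Fin m ⊕ Fin m) F) - 1).rank)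
    (hab : (∀ v, sympForm m F v ((a : Matrix (Fin m ⊕ Fin m) (Fin m ⊕ Fin m) F) *ᵥ v) = 0) ↔
      ∀ v, sympForm m F v ((b : Matrix (Fin m ⊕ Fin m) (Fin m ⊕ Fin m) F) *ᵥ v) = 0) :
    IsConj a b := by
  rw [rank_sub_one, rank_sub_one] at hr
  obtain ⟨g, hg, hgt⟩ := conj_symp two_zero (exists_sq_two two_zero)
    (fun x => ClassicalGeometry.SympBasic.sympForm_self x)
    ClassicalGeometry.SympBasic.sympBilin_nondegenerate (sq_symp ha) (sq_symp hb) hr hab
  set M : Matrix (Fin m ⊕ Fin m) (Fin m ⊕ Fin m) F := LinearMap.toMatrix' g.toLinearMap with hM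
  have hMv : ∀ x, M *ᵥ x = g x := fun x => by
    rw [hM, LinearMap.toMatrix'_mulVec]
    rfl
  have hMs : M ∈ Matrix.symplecticGroup (Fin m) F := by
    rw [ClassicalGeometry.SympBasic.mem_symplecticGroup_iff]
    intro u v
    rw [hMv, hMv]
    exact hg u v
  rw [isConj_iff]
  refine ⟨⟨M, hMs⟩, ?_⟩
  rw [mul_inv_eq_iff_eq_mul]
  apply Subtype.ext
  apply Matrix.mulVec_injective
  funext x
  rw [ClassicalGeometry.SympBasic.coe_mul_mulVec, ClassicalGeometry.SympBasic.coe_mul_mulVec]
  show M *ᵥ _ = _ *ᵥ (M *ᵥ x)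
  rw [hMv, hMv]
  exact hgt x

end Symp

end Cfsg.Agent.H80
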