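import Cfsg.Prelude.Def_Classical
import Cfsg.Agent.H80.SympTwo
import Cfsg.Agent.ClassicalGeometry.GUBasic
import Cfsg.Agent.ClassicalGeometry.HermWitt
import Cfsg.Agent.LieClassical.SUBasic

/-!
# Involutions of `SU_n(q)`, `q` even (helper80)

* `hB hF` : the form `hermForm n F q` as a sesquilinear map, conjugate linear in the first
  variable; symmetric, nondegenerate;
* `conj_herm` : isometries with square 1 (characteristic two) of the same rank are conjugate;
* `exists_det` : an isometry `s ≠ 1` with `s ^ 2 = 1` commutes with an isometry of determinant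
  `α ^ 2`, for every `α` of norm one;
* `isConj_SU` : two elements of `SU_n(q)` with square 1 and the same rank `rank (a - 1)` are
  conjugate in `SU_n(q)`.
-/

set_option autoImplicit false
set_option linter.unusedSectionVars false

namespace Cfsg.Agent.H80

open Module Matrix

variable {F : Type*} [Field F] [Fintype F] {n q : ℕ}

/-- the Frobenius `x ↦ x ^ q` -/
noncomputable def frob (hF : Fintype.card F = q ^ 2) : F →+* F :=
  Classical.choose (ClassicalGeometry.GUBasic.exists_powHom hF)

theorem frob_apply (hF : Fintype.card F = q ^ 2) (x : F) : frob hF x = x ^ q :=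
  Classical.choose_spec (ClassicalGeometry.GUBasic.exists_powHom hF) x

theorem frob_frob (hF : Fintype.card F = q ^ 2) (x : F) : frob hF (frob hF x) = x := by
  rw [frob_apply, frob_apply, ← pow_mul, ← pow_two, ← hF, FiniteField.pow_card]

theorem frob_ne (hF : Fintype.card F = q ^ 2) : frob hF ≠ RingHom.id F := by
  intro h
  obtain ⟨c, hc, hc1⟩ := ClassicalGeometry.GUBasic.exists_norm_one hF
  have hq := ClassicalGeometry.GUBasic.two_le hF
  -- all elements satisfy `x ^ q = x`
  have h1 : ∀ x : F, x ^ q = x := fun x => by rw [← frob_apply hF, h]; rfl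
  classical
  have h2 : Fintype.card F ≤ q := by
    have h3 : (Finset.univ : Finset F) ⊆ (Polynomial.X ^ q - Polynomial.X : Polynomial F).roots.toFinset := by
      intro x _
      rw [Multiset.mem_toFinset, Polynomial.mem_roots
        (FiniteField.X_pow_card_sub_X_ne_zero F (by omega))]
      simp [h1]
    calc Fintype.card F = (Finset.univ : Finset F).card := Finset.card_univ.symm
      _ ≤ _ := Finset.card_le_card h3
      _ ≤ Multiset.card (Polynomial.X ^ q - Polynomial.X : Polynomial F).roots :=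
        Multiset.toFinset_card_le _
      _ ≤ (Polynomial.X ^ q - Polynomial.X : Polynomial F).natDegree := Polynomial.card_roots' _
      _ = q := FiniteField.X_pow_card_sub_X_natDegree_eq F (by omega)
  rw [hF] at h2
  nlinarith

/-- `hermForm` as a sesquilinear map (arguments exchanged). -/
noncomputable def hB (n : ℕ) (hF : Fintype.card F = q ^ 2) :
    (Fin n → F) →ₛₗ[frob hF] (Fin n → F) →ₗ[F] F :=
  LinearMap.mk₂'ₛₗ (frob hF) (RingHom.id F) (fun v u => hermForm n F q u v)
    (fun v v' u => by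
      simp only [hermForm, Pi.add_apply, ← frob_apply hF, map_add, mul_add,
        Finset.sum_add_distrib])
    (fun c v u => by
      simp only [hermForm, Pi.smul_apply, smul_eq_mul, ← frob_apply hF, map_mul, Finset.mul_sum]
      exact Finset.sum_congr rfl fun i _ => by ring)
    (fun v u u' => by
      simp only [hermForm, Pi.add_apply, add_mul, Finset.sum_add_distrib])
    (fun c v u => by
      simp only [hermForm, Pi.smul_apply, smul_eq_mul, Finset.mul_sum, RingHom.id_apply]
      exact Finset.sum_congr rfl fun i _ => by ring)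

theorem hB_apply (hF : Fintype.card F = q ^ 2) (v u : Fin n → F) :
    hB n hF v u = hermForm n F q u v := rfl

theorem hB_symm (hF : Fintype.card F = q ^ 2) : (hB n hF).IsSymm := by
  constructor
  intro v u
  rw [hB_apply, hB_apply, hermForm, hermForm, map_sum]
  refine Finset.sum_congr rfl fun i _ => ?_
  rw [map_mul, ← frob_apply hF, frob_frob, frob_apply]
  ring

theorem hB_nondeg (hF : Fintype.card F = q ^ 2) : (hB n hF).Nondegenerate := by
  have h1 : (hB n hF).SeparatingRight := by
    intro u hu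
    funext i
    have h := hu (Pi.single i 1)
    rw [hB_apply, hermForm, Finset.sum_eq_single i] at h
    · simpa using h
    · intro j _ hj
      rw [Pi.single_eq_of_ne hj, zero_pow (by have := ClassicalGeometry.GUBasic.two_le hF; omega),
        mul_zero]
    · intro h
      exact absurd (Finset.mem_univ _) h
  refine ⟨fun v hv => h1 v fun u => ?_, h1⟩
  have h2 := (hB_symm (n := n) hF).eq v u
  rw [← h2, hv, map_zero]

/-- **Conjugacy under isometries.** -/
theorem conj_herm (h2 : (2 : F) = 0) (hF : Fintype.card F = q ^ 2)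
    {t s : (Fin n → F) →ₗ[F] (Fin n → F)} (ht : Sq (hB n hF) t) (hs : Sq (hB n hF) s)
    (hr : finrank F (LinearMap.range (nil t)) = finrank F (LinearMap.range (nil s))) :
    ∃ g : (Fin n → F) ≃ₗ[F] (Fin n → F), (∀ u v, hB n hF (g u) (g v) = hB n hF u v) ∧
      ∀ x, g (t x) = s (g x) := by
  obtain ⟨v, hv⟩ := exists_orthonormal (frob_ne hF) (frob_frob hF) (hB_symm hF) (hB_nondeg hF) ht _
    le_rfl
  obtain ⟨w, hw⟩ := exists_orthonormal (frob_ne hF) (frob_frob hF) (hB_symm hF) (hB_nondeg hF) hs _
    hr.le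
  have l1 := linearIndependent_perm (τ := id) (fun _ => rfl) hv
  have l2 := linearIndependent_perm (τ := id) (fun _ => rfl) hw
  have hn2 : ∀ {r : (Fin n → F) →ₗ[F] (Fin n → F)}, Sq (hB n hF) r → ∀ x, nil r (nil r x) = 0 := by
    intro r hr x
    rw [nil_apply, nil_apply, map_sub, hr.sq]
    have : x - r x - (r x - x) = (2 : F) • (x - r x) := by rw [two_smul]; abel
    rw [this, h2, zero_smul]
  have hG : ∀ i j, hB n hF (nil s (w i)) (nil s (w j)) = hB n hF (nil t (v i)) (nil t (v j)) := by
    intro i j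
    rw [← hs.adj, ← ht.adj, hn2 hs, hn2 ht, map_zero, map_zero]
  obtain ⟨φ, hφ, hφi⟩ := exists_map_family l1 l2 hG
  obtain ⟨g, hg, hgφ⟩ := ClassicalGeometry.HermWitt.exists_extension (frob hF) (hB n hF)
    (frob_ne hF) (frob_frob hF)
    (hB_symm hF) (hB_nondeg hF).1 _ ((Submodule.subtype _).comp φ.toLinearMap)
    (fun x y h => φ.injective (Subtype.ext h)) hφ
  refine ⟨g, hg, fun x => ?_⟩
  have hgi : ∀ i, g (nil t (v i)) = nil s (w i) := fun i => by
    rw [← hφi, ← LinearEquiv.coe_coe φ]
    exact hgφ ⟨_, Submodule.subset_span ⟨i, rfl⟩⟩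
  exact intertwine (hB_nondeg hF).1 ht hs (mem_span_of_card l1 (by rw [Fintype.card_fin]))
    (mem_span_of_card l2 (by rw [← hr, Fintype.card_fin]))
    (fun i j => (hv i j).trans (hw i j).symm) g.toLinearMap hg hgi x

/-- An isometry of determinant `α ^ 2` commuting with `s`. -/
theorem exists_det (h2 : (2 : F) = 0) (hF : Fintype.card F = q ^ 2)
    {s : (Fin n → F) →ₗ[F] (Fin n → F)} (hs : Sq (hB n hF) s)
    (hpos : 0 < finrank F (LinearMap.range (nil s))) (α : F) (hα : α ^ (q + 1) = 1) :
    ∃ H : Matrix (Fin n) (Fin n) F, H.det = α ^ 2 ∧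
      (∀ u v, hB n hF (H *ᵥ u) (H *ᵥ v) = hB n hF u v) ∧ ∀ x, H *ᵥ (s x) = s (H *ᵥ x) := by
  obtain ⟨w, hw⟩ := exists_orthonormal (frob_ne hF) (frob_frob hF) (hB_symm hF) (hB_nondeg hF) hs 1
    hpos
  have hn2 : ∀ x, nil s (nil s x) = 0 := by
    intro x
    rw [nil_apply, nil_apply, map_sub, hs.sq]
    have : x - s x - (s x - x) = (2 : F) • (x - s x) := by rw [two_smul]; abel
    rw [this, h2, zero_smul]
  set z := nil s (w 0) with hz
  have hwz : hB n hF (w 0) z = 1 := by
    have := hw 0 0
    rw [if_pos rfl, form_apply] at this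
    exact this
  have hzw : hB n hF z (w 0) = 1 := by rw [← (hB_symm hF).eq, hwz, map_one]
  have hzz : hB n hF z z = 0 := by rw [hz, ← hs.adj, hn2, map_zero]
  -- correct `w 0` to an isotropic vector
  obtain ⟨c, hc⟩ := ClassicalGeometry.HermWitt.trace_surj (frob hF) (frob_ne hF) (frob_frob hF)
    (hB n hF (w 0) (w 0)) ((hB_symm hF).eq _ _)
  set y := w 0 + c • z with hy
  have hyz : hB n hF y z = 1 := by
    rw [hy, LinearMap.map_add₂, LinearMap.map_smulₛₗ₂, hzz, smul_zero, add_zero, hwz]
  have hzy : hB n hF z y = 1 := by rw [← (hB_symm hF).eq, hyz, map_one]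
  have hyy : hB n hF y y = 0 := by
    have : hB n hF y y = hB n hF (w 0) (w 0) + c + frob hF c := by
      rw [hy, LinearMap.map_add₂, LinearMap.map_smulₛₗ₂, map_add, map_add, map_smul, map_smul,
        hwz, hzz, hzw]
      simp
    rw [this, ← hc]
    linear_combination (c + frob hF c) * h2
  have hsz : s z = z := by
    have h3 := hn2 (w 0)
    rw [nil_apply, sub_eq_zero] at h3
    exact h3
  have hsw : s (w 0) = w 0 + z := by rw [hz, nil_apply]; abel
  have hsy : s y = y + z := by
    rw [hy, map_add, map_smul, hsz, hsw]; abel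
  have hα1 : frob hF α * α = 1 := by rw [frob_apply, ← pow_succ, hα]
  clear_value y z
  -- the functionals
  set ζ : Fin n → F := fun j => hB n hF z (Pi.single j 1) with hζ
  set ω : Fin n → F := fun j => hB n hF y (Pi.single j 1) with hω
  have hdot : ∀ (u x : Fin n → F), (fun j => hB n hF u (Pi.single j 1)) ⬝ᵥ x = hB n hF u x := by
    intro u x
    conv_rhs => rw [pi_eq_sum_univ' x]
    rw [map_sum]
    refine Finset.sum_congr rfl fun j _ => ?_
    rw [map_smul, smul_eq_mul, mul_comm]
  set A : Matrix (Fin n) (Fin 2) F := Matrix.of fun i k => (α - 1) * (if k = 0 then y i else z i)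
    with hA
  set C : Matrix (Fin 2) (Fin n) F := Matrix.of fun k j => (if k = 0 then ζ j else ω j) with hC
  have hACv : ∀ x, (1 + A * C) *ᵥ x = x + (α - 1) • (hB n hF z x • y + hB n hF y x • z) := by
    intro x
    rw [Matrix.add_mulVec, Matrix.one_mulVec, ← Matrix.mulVec_mulVec]
    congr 1
    have hCx : C *ᵥ x = ![hB n hF z x, hB n hF y x] := by
      funext k
      fin_cases k
      · exact hdot z x
      · exact hdot y x
    funext i
    rw [hCx, hA]
    simp only [Matrix.mulVec, dotProduct, Fin.sum_univ_two, Matrix.of_apply, Pi.smul_apply,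
      Pi.add_apply, smul_eq_mul]
    simp
    ring
  refine ⟨1 + A * C, ?_, ?_, ?_⟩
  · rw [Matrix.det_one_add_mul_comm]
    have hCA : C * A = (α - 1) • (1 : Matrix (Fin 2) (Fin 2) F) := by
      have e1 : ∀ u v : Fin n → F, ∑ j, hB n hF u (Pi.single j 1) * ((α - 1) * v j)
          = (α - 1) * hB n hF u v := by
        intro u v
        rw [← hdot u v, dotProduct, Finset.mul_sum]
        exact Finset.sum_congr rfl fun j _ => by ring
      ext k l
      rw [Matrix.mul_apply, hA, hC]
      fin_cases k <;> fin_cases l <;>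
        simp [hζ, hω, e1, hyz, hzy, hyy, hzz]
    rw [hCA]
    have : (1 : Matrix (Fin 2) (Fin 2) F) + (α - 1) • (1 : Matrix (Fin 2) (Fin 2) F)
        = α • (1 : Matrix (Fin 2) (Fin 2) F) := by
      rw [sub_smul, one_smul]; abel
    rw [this, Matrix.det_smul, Matrix.det_one, Fintype.card_fin, mul_one]
  · intro u v
    rw [hACv, hACv]
    simp only [map_add, LinearMap.add_apply, map_smul, smul_eq_mul,
      smul_add, hyz, hzy, hyy, hzz, LinearMap.map_smulₛₗ, LinearMap.smul_apply, map_sub, map_one]
    have e1 : frob hF (hB n hF z u) = hB n hF u z := (hB_symm hF).eq _ _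
    have e2 : frob hF (hB n hF y u) = hB n hF u y := (hB_symm hF).eq _ _
    rw [e1, e2]
    linear_combination (hB n hF u z * hB n hF y v + hB n hF u y * hB n hF z v) * hα1
  · intro x
    rw [hACv, hACv, map_add, map_smul]
    have e1 : hB n hF z (s x) = hB n hF z x := by
      conv_lhs => rw [← hsz]
      rw [hs.iso]
    have e2 : hB n hF y (s x) = hB n hF y x + hB n hF z x := by
      have h3 := hs.iso (s y) x
      rw [hs.sq] at h3
      rw [h3, hsy, LinearMap.map_add₂]
    rw [e1, e2]
    have e3 : s (hB n hF z x • y + hB n hF y x • z)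
        = hB n hF z x • y + (hB n hF y x + hB n hF z x) • z := by
      rw [map_add, map_smul, map_smul, hsy, hsz]
      module
    rw [e3]

/-- the linear map of an element of `SU`. -/
theorem sq_SU (hF : Fintype.card F = q ^ 2) {a : SU n F q} (ha : a ^ 2 = 1) :
    Sq (hB n hF) (Matrix.mulVecLin ((a : Matrix.SpecialLinearGroup (Fin n) F) :
      Matrix (Fin n) (Fin n) F)) := by
  refine ⟨fun x y => ?_, fun x => ?_⟩
  · exact a.2 y x
  · rw [Matrix.mulVecLin_apply, Matrix.mulVecLin_apply, Matrix.mulVec_mulVec]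
    have h := congrArg (fun X : SU n F q =>
      ((X : Matrix.SpecialLinearGroup (Fin n) F) : Matrix (Fin n) (Fin n) F)) ha
    simp only [sq] at h
    have h' : ((a : Matrix.SpecialLinearGroup (Fin n) F) : Matrix (Fin n) (Fin n) F) *
        ((a : Matrix.SpecialLinearGroup (Fin n) F) : Matrix (Fin n) (Fin n) F) = 1 := by
      simpa using h
    rw [h', Matrix.one_mulVec]

/-- **Conjugacy in `SU_n(q)`, `q` even.** -/
theorem isConj_SU (h2 : (2 : F) = 0) (hF : Fintype.card F = q ^ 2) {a b : SU n F q}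
    (ha : a ^ 2 = 1) (hb : b ^ 2 = 1)
    (hr : (((a : Matrix.SpecialLinearGroup (Fin n) F) : Matrix (Fin n) (Fin n) F) - 1).rank
      = (((b : Matrix.SpecialLinearGroup (Fin n) F) : Matrix (Fin n) (Fin n) F) - 1).rank)
    (hpos : 0 < (((b : Matrix.SpecialLinearGroup (Fin n) F) : Matrix (Fin n) (Fin n) F) - 1).rank) :
    IsConj a b := by
  set Ma := ((a : Matrix.SpecialLinearGroup (Fin n) F) : Matrix (Fin n) (Fin n) F) with hMa
  set Mb := ((b : Matrix.SpecialLinearGroup (Fin n) F) : Matrix (Fin n) (Fin n) F) with hMb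
  rw [rank_sub_one, rank_sub_one] at hr
  rw [rank_sub_one] at hpos
  obtain ⟨g, hg, hgt⟩ := conj_herm h2 hF (sq_SU hF ha) (sq_SU hF hb) hr
  set G : Matrix (Fin n) (Fin n) F := LinearMap.toMatrix' g.toLinearMap with hG
  have hGv : ∀ x, G *ᵥ x = g x := fun x => by
    rw [hG, LinearMap.toMatrix'_mulVec]
    rfl
  have hGiso : ∀ u v : Fin n → F, hermForm n F q (G *ᵥ u) (G *ᵥ v) = hermForm n F q u v := by
    intro u v
    rw [hGv, hGv]
    exact hg v u
  have hdet := ClassicalGeometry.GUBasic.det_pow hF hGiso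
  set δ := G.det with hδ
  have hδ0 : δ ≠ 0 := by
    intro h
    rw [h, zero_pow (Nat.succ_ne_zero q)] at hdet
    exact zero_ne_one hdet
  -- `q` is even
  have hqe : Even q := by
    have h3 : CharP F 2 := CharTwo.of_one_ne_zero_of_two_eq_zero one_ne_zero h2
    have h4 : 2 ∣ Fintype.card F := by
      have := FiniteField.card F 2
      obtain ⟨k, -, hk⟩ := this
      rw [hk]
      exact dvd_pow_self 2 k.ne_zero
    rw [hF] at h4
    exact even_iff_two_dvd.2 (Nat.Prime.dvd_of_dvd_pow Nat.prime_two h4)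
  obtain ⟨k, hk⟩ := hqe
  set α := (δ⁻¹) ^ (k + 1) with hα
  have hα1 : α ^ (q + 1) = 1 := by
    rw [hα, ← pow_mul, mul_comm, pow_mul, inv_pow, hdet, inv_one, one_pow]
  have hα2 : α ^ 2 = δ⁻¹ := by
    rw [hα, ← pow_mul, show (k + 1) * 2 = (q + 1) + 1 by omega, pow_add, inv_pow, hdet, inv_one,
      one_mul, pow_one]
  obtain ⟨H, hH, hHiso, hHs⟩ := exists_det h2 hF (sq_SU hF hb) hpos α hα1
  have hHG : (H * G).det = 1 := by
    rw [Matrix.det_mul, hH, hα2, ← hδ, inv_mul_cancel₀ hδ0]
  set X : Matrix.SpecialLinearGroup (Fin n) F := ⟨H * G, hHG⟩ with hX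
  have hXmem : X ∈ SU n F q := by
    rw [LieClassical.SUBasic.mem_SU_iff]
    intro u v
    show hermForm n F q ((H * G) *ᵥ u) ((H * G) *ᵥ v) = _
    rw [← Matrix.mulVec_mulVec, ← Matrix.mulVec_mulVec]
    exact (hHiso _ _).trans (hGiso u v)
  rw [isConj_iff]
  refine ⟨⟨X, hXmem⟩, ?_⟩
  rw [mul_inv_eq_iff_eq_mul]
  apply Subtype.ext
  apply Subtype.ext
  show (H * G) * Ma = Mb * (H * G)
  apply Matrix.mulVec_injective
  funext x
  rw [← Matrix.mulVec_mulVec, ← Matrix.mulVec_mulVec, ← Matrix.mulVec_mulVec,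
    ← Matrix.mulVec_mulVec, hGv, hGv]
  have h5 : g (Ma *ᵥ x) = Mb *ᵥ (g x) := hgt x
  rw [h5]
  exact hHs (g x)

end Cfsg.Agent.H80
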