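import Cfsg.Agent.H80.OrthSplit
import Cfsg.Agent.LieClassical.OrthForms

/-!
# Splitting of classes of involutions from `O(Q)` to `Ω(Q)`, characteristic two (helper80)
-/

set_option autoImplicit false
set_option linter.unusedSectionVars false

namespace Cfsg.Agent.H80

open Module Matrix QuadraticMap
open Cfsg.Agent.ClassicalGeometry.OrthCharTwo
open Cfsg.Agent.ClassicalGeometry.OrthDickson
open Cfsg.Agent.ClassicalGeometry.Reflection

variable {ι : Type} [Fintype ι] [DecidableEq ι] {F : Type*} [Field F] [Finite F]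

/-- the first part: no splitting outside the exceptional case -/
theorem split_one (h2 : (2 : F) = 0) {Qf : (ι → F) → F} {Q : QuadraticForm F (ι → F)}
    (hf : ⇑Q = Qf) (hQ : ∀ x, (∀ y, polar Q x y = 0) → x = 0) (hc : Fintype.card ι ≠ 4)
    [Nonempty ι] {m : ℕ} (hm : Fintype.card ι = 2 * m) {t s : Cfsg.isometryGroup F Qf}
    (ht : t ^ 2 = 1) (hts : IsConj t s)
    (hne : ¬ ((mat t - 1).rank = m ∧ ∀ v, Qf (v + mat t *ᵥ v) = 0)) :
    ∃ g ∈ Cfsg.Omega F Qf, g * t * g⁻¹ = s := by
  subst hf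
  have hQ' := nondeg_of Q hQ
  by_cases h : ∀ u, act t u = u → Q u = 0
  · exfalso
    apply hne
    obtain ⟨h1, h3, -⟩ := singular_case Q h2 hQ' hm ht h
    refine ⟨h1, fun v => ?_⟩
    rw [add_comm, ← sub_eq_add_of_two h2]
    exact h3 v
  · push Not at h
    obtain ⟨u, htu, hu⟩ := h
    exact exists_commutator_conj Q h2 hQ' (Or.inr hc) (isConj_iff.1 hts) hu htu

/-- `im (t - 1)` is totally singular in the exceptional case -/
theorem split_two (h2 : (2 : F) = 0) {Qf : (ι → F) → F} {Q : QuadraticForm F (ι → F)}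
    (hf : ⇑Q = Qf) (hQ : ∀ x, (∀ y, polar Q x y = 0) → x = 0) (hc : Fintype.card ι ≠ 4)
    [Nonempty ι] {m : ℕ} (hm : Fintype.card ι = 2 * m) {t s : Cfsg.isometryGroup F Qf}
    (ht : t ^ 2 = 1) (hts : IsConj t s)
    (hr : (mat t - 1).rank = m) (hz : ∀ v, Qf (v + mat t *ᵥ v) = 0) :
    (∃ g ∈ Cfsg.Omega F Qf, g * t * g⁻¹ = s) ↔
      Even (Module.finrank F ↥(LinearMap.range (Matrix.toLin' (mat t - 1)) ⊓
        LinearMap.range (Matrix.toLin' (mat s - 1)))) := by
  subst hf
  have hQ' := nondeg_of Q hQ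
  rw [Matrix.toLin'_apply', Matrix.toLin'_apply']
  change _ ↔ Even (Module.finrank F ↥(im Q t ⊓ im Q s))
  have hz' : ∀ v, Q (act t v - v) = 0 := by
    intro v
    rw [sub_eq_add_of_two h2, add_comm]
    exact hz v
  have hW : ∀ w ∈ im Q t, Q w = 0 := by
    intro w hw
    obtain ⟨y, rfl⟩ := (mem_im Q).1 hw
    exact hz' y
  have hWm : finrank F (im Q t) = m := hr
  -- `m` is even
  have hme : Even m := by
    have hsq : Sq (polarBilin Q) (Matrix.mulVecLin (mat t)) := Sq.of_quad Q (lin_iso Q t)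
      (lin_sq Q ht)
    have hS : LinearMap.IsSymm (polarBilin Q) := by
      constructor
      intro x y
      rw [RingHom.id_apply, ClassicalGeometry.WittQuad.polar_comm']
    obtain ⟨r, hr', -⟩ := exists_symplectic_eq hS hQ' hsq (fun x => by
      have h1 := quad_nil Q (t := Matrix.mulVecLin (mat t)) (lin_iso Q t) x
      have h3 : Q (nil (Matrix.mulVecLin (mat t)) x) = 0 := hz' x
      rw [h3] at h1
      linear_combination h1)
    rw [rank_sub_one, hr'] at hr
    rw [← hr]
    exact even_two_mul r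
  have himg : ∀ g : Cfsg.isometryGroup F (⇑Q), g * t * g⁻¹ = s → im Q s = img Q g (im Q t) := by
    intro g hg
    have hg' : g * t = s * g := by rw [← hg]; group
    ext x
    rw [mem_img, mem_im]
    constructor
    · rintro ⟨y, rfl⟩
      refine ⟨act t (act g⁻¹ y) - act g⁻¹ y, (mem_im Q).2 ⟨_, rfl⟩, ?_⟩
      rw [act_sub, ← act_mul, hg', act_mul, act_act_inv]
    · rintro ⟨w, hw, rfl⟩
      obtain ⟨y, rfl⟩ := (mem_im Q).1 hw
      refine ⟨act g y, ?_⟩
      rw [act_sub, ← act_mul s, ← hg', act_mul]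
  constructor
  · rintro ⟨g, hg, hgt⟩
    have h1 := (mem_commutator_iff_inter Q h2 hQ' (Or.inr hc) hm hW hWm g).1 hg
    rw [himg g hgt]
    exact (Nat.even_add.1 h1).2 hme
  · intro he
    obtain ⟨g, hgt⟩ := isConj_iff.1 hts
    refine ⟨g, (mem_commutator_iff_inter Q h2 hQ' (Or.inr hc) hm hW hWm g).2 ?_, hgt⟩
    rw [← himg g hgt]
    exact he.add hme

/-- In the minus form there is no totally singular subspace of half the dimension. -/
theorem no_half {k : ℕ} (a b : F)
    (hab : ∀ z₁ z₂ : F, z₁ ^ 2 + a * z₁ * z₂ + b * z₂ ^ 2 = 0 → z₁ = 0 ∧ z₂ = 0)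
    (W : Submodule F ((Fin k ⊕ Fin k) ⊕ Fin 2 → F)) (hWm : finrank F W = k + 1)
    (hW : ∀ w ∈ W, LieClassical.OrthForms.minusForm k F a b w = 0) : False := by
  set Q := LieClassical.OrthForms.minusForm k F a b with hQdef
  have hQ := nondeg_of Q (LieClassical.OrthForms.nondeg_minusForm k F a b hab)
  let U : Submodule F ((Fin k ⊕ Fin k) ⊕ Fin 2 → F) :=
    { carrier := {x | (∀ i, x (.inl (.inr i)) = 0) ∧ ∀ j, x (.inr j) = 0}
      add_mem' := by
        rintro x y ⟨h1, h2⟩ ⟨h3, h4⟩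
        refine ⟨fun i => ?_, fun i => ?_⟩
        · rw [Pi.add_apply, h1, h3, add_zero]
        · rw [Pi.add_apply, h2, h4, add_zero]
      zero_mem' := ⟨fun _ => rfl, fun _ => rfl⟩
      smul_mem' := by
        rintro c x ⟨h1, h2⟩
        refine ⟨fun i => ?_, fun i => ?_⟩
        · rw [Pi.smul_apply, h1, smul_zero]
        · rw [Pi.smul_apply, h2, smul_zero] }
  have hUmem : ∀ x, x ∈ U ↔ (∀ i, x (.inl (.inr i)) = 0) ∧ ∀ j, x (.inr j) = 0 := fun x => Iff.rfl
  have hU : ∀ u ∈ U, Q u = 0 := by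
    intro u hu
    obtain ⟨h1, h3⟩ := (hUmem u).1 hu
    rw [hQdef, LieClassical.OrthForms.coe_minusForm, LieClassical.OrthForms.quadFormMinus_apply,
      h3, h3]
    rw [Finset.sum_eq_zero fun i _ => by rw [h1, mul_zero]]
    ring
  have hUk : finrank F U ≤ k := by
    let f : U →ₗ[F] (Fin k → F) :=
      { toFun := fun x i => x.1 (.inl (.inl i))
        map_add' := fun _ _ => rfl
        map_smul' := fun _ _ => rfl }
    have hf : Function.Injective f := by
      intro x y hxy
      apply Subtype.ext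
      obtain ⟨h1, h3⟩ := (hUmem _).1 x.2
      obtain ⟨h4, h5⟩ := (hUmem _).1 y.2
      funext i
      rcases i with (i | i) | i
      · exact congrFun hxy i
      · rw [h1, h4]
      · rw [h3, h5]
    have := LinearMap.finrank_le_finrank_of_injective hf
    rwa [finrank_fintype_fun_eq_card, Fintype.card_fin] at this
  obtain ⟨W', hW'm, hW', hUW⟩ := ClassicalGeometry.SubmaximalCount.exists_maximal (⇑Q)
    (polarBilin Q) (fun u v => ClassicalGeometry.WittQuad.form_add Q u v) hQ (m := k + 1)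
    (by rw [finrank_fintype_fun_eq_card, Fintype.card_sum, Fintype.card_sum, Fintype.card_fin,
      Fintype.card_fin]; omega) hW hWm hU
  have hle : W' ≤ U := by
    intro w hw
    have h1 : ∀ i, w (.inl (.inr i)) = 0 := by
      intro i
      have h3 := ClassicalGeometry.SubmaximalCount.polar_eq_zero (⇑Q)
        (polarBilin Q) (fun u v => ClassicalGeometry.WittQuad.form_add Q u v) hW'
        (u := Pi.single (.inl (.inl i)) 1) (hUW ((hUmem _).2 ⟨fun j => by simp, fun j => by simp⟩)) hw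
      have h4 : polar Q (Pi.single (.inl (.inl i)) 1) w = 0 := h3
      rw [hQdef, LieClassical.OrthForms.polar_minusForm] at h4
      simpa [Pi.single_apply] using h4
    have h3 := hW' w hw
    rw [hQdef, LieClassical.OrthForms.coe_minusForm, LieClassical.OrthForms.quadFormMinus_apply,
      Finset.sum_eq_zero fun i _ => by rw [h1, mul_zero], zero_add] at h3
    obtain ⟨h4, h5⟩ := hab _ _ h3
    refine (hUmem w).2 ⟨h1, fun j => ?_⟩
    fin_cases j
    · exact h4
    · exact h5
  have := Submodule.finrank_mono hle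
  omega

/-- the minus type -/
theorem split_minus (h2 : (2 : F) = 0) {k : ℕ} (hk : 2 ≤ k) (a b : F)
    (hab : ∀ z₁ z₂ : F, z₁ ^ 2 + a * z₁ * z₂ + b * z₂ ^ 2 = 0 → z₁ = 0 ∧ z₂ = 0)
    {t s : Cfsg.isometryGroup F (Cfsg.quadFormMinus k F a b)}
    (ht : t ^ 2 = 1) (hts : IsConj t s) :
    ∃ g ∈ Cfsg.Omega F (Cfsg.quadFormMinus k F a b), g * t * g⁻¹ = s := by
  revert t s
  rw [← LieClassical.OrthForms.coe_minusForm]
  intro t s ht hts
  have hQ := LieClassical.OrthForms.nondeg_minusForm k F a b hab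
  have hcard : Fintype.card ((Fin k ⊕ Fin k) ⊕ Fin 2) = 2 * (k + 1) := by
    rw [Fintype.card_sum, Fintype.card_sum, Fintype.card_fin,
      Fintype.card_fin]; omega
  apply split_one h2 rfl hQ (by omega) hcard ht hts
  rintro ⟨hr, hz⟩
  refine no_half a b hab (im _ t) hr ?_
  intro w hw
  obtain ⟨y, rfl⟩ := (mem_im _).1 hw
  rw [sub_eq_add_of_two h2, add_comm]
  exact hz y

end Cfsg.Agent.H80
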