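import Mathlib
import Cfsg.Agent.ClassicalGeometry.HermWitt
import Cfsg.Agent.ClassicalGeometry.HermOrthonormal

/-!
# Isometries `t` with `t ^ 2 = 1` of a sesquilinear form (helper80)

`B : V →ₛₗ[σ] V →ₗ[F] F`, `t` a linear map with `B (t x) (t y) = B x y`, `t (t x) = x`,
`nil t = t - 1` and the form `b x y = B x (nil t y)`.

* `Sq.adj` : `B x (nil t y) = B (nil t x) y`;
* `Sq.form` : the form `b`, `Sq.form_symm`;
* `intertwine` : if an isometry `g` maps `nil t (v i)` to `nil s (w i)` and
  `B (v i) (nil t (v j)) = B (w i) (nil s (w j))`, the `nil t (v i)`, `nil s (w i)` spanning the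
  images, then `g t = s g`;
* `exists_orthonormal`, `exists_orthonormal_two`, `exists_symplectic` : families of vectors with
  standard Gram matrix for `b`, of the length `finrank (range (nil t))`.
-/

set_option autoImplicit false

namespace Cfsg.Agent.H80

open Module

section Generic

variable {F V : Type*} [Field F] [AddCommGroup V] [Module F V] {σ : F →+* F}

/-- `t` is an isometry with `t ^ 2 = 1`. -/
structure Sq (B : V →ₛₗ[σ] V →ₗ[F] F) (t : V →ₗ[F] V) : Prop where
  iso : ∀ x y, B (t x) (t y) = B x y
  sq : ∀ x, t (t x) = x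

/-- `t - 1` -/
def nil (t : V →ₗ[F] V) : V →ₗ[F] V := t - LinearMap.id

theorem nil_apply (t : V →ₗ[F] V) (x : V) : nil t x = t x - x := rfl

variable {B : V →ₛₗ[σ] V →ₗ[F] F} {t s : V →ₗ[F] V}

theorem Sq.adj (h : Sq B t) (x y : V) : B x (nil t y) = B (nil t x) y := by
  have h1 := h.iso (t x) y
  rw [h.sq] at h1
  rw [nil_apply, nil_apply, map_sub, LinearMap.map_sub₂, h1]

/-- The form `b x y = B x (t y - y)`. -/
def form (B : V →ₛₗ[σ] V →ₗ[F] F) (t : V →ₗ[F] V) : V →ₛₗ[σ] V →ₗ[F] F :=
  B.compl₂ (nil t)

theorem form_apply (x y : V) : form B t x y = B x (nil t y) := rfl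

theorem Sq.form_symm (h : Sq B t) (hS : B.IsSymm) : (form B t).IsSymm := by
  constructor
  intro x y
  rw [form_apply, form_apply, hS.eq, ← h.adj]

/-- The main lemma. -/
theorem intertwine {ι : Type*} [Fintype ι] (hnd : B.SeparatingLeft) (ht : Sq B t) (hs : Sq B s)
    {v w : ι → V} (hv : ∀ y, nil t y ∈ Submodule.span F (Set.range fun i => nil t (v i)))
    (hw : ∀ y, nil s y ∈ Submodule.span F (Set.range fun i => nil s (w i)))
    (hG : ∀ i j, B (v i) (nil t (v j)) = B (w i) (nil s (w j)))
    (g : V →ₗ[F] V) (hg : ∀ x y, B (g x) (g y) = B x y)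
    (hgv : ∀ i, g (nil t (v i)) = nil s (w i)) (x : V) : g (t x) = s (g x) := by
  have key : ∀ x, g (nil t x) = nil s (g x) := by
    -- first, for the vectors `v i`
    have step : ∀ z z' : V, (∀ j, B z (nil s (w j)) = B z' (nil s (w j))) → nil s z = nil s z' := by
      intro z z' h
      rw [← sub_eq_zero, ← map_sub]
      apply hnd
      intro y
      rw [← hs.adj]
      have h1 : ∀ u ∈ Submodule.span F (Set.range fun i => nil s (w i)), B (z - z') u = 0 := by
        intro u hu
        induction hu using Submodule.span_induction with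
        | mem u hu =>
          obtain ⟨j, rfl⟩ := hu
          rw [LinearMap.map_sub₂, h j, sub_self]
        | zero => rw [map_zero]
        | add u u' _ _ h1 h2 => rw [map_add, h1, h2, add_zero]
        | smul c u _ h1 => rw [map_smul, h1, smul_zero]
      exact h1 _ (hw y)
    intro x
    obtain ⟨c, hc⟩ := (Submodule.mem_span_range_iff_exists_fun F).1 (hv x)
    have e1 : g (nil t x) = nil s (∑ i, c i • w i) := by
      rw [← hc, map_sum, map_sum]
      refine Finset.sum_congr rfl fun i _ => ?_
      rw [map_smul, map_smul, hgv]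
    rw [e1]
    apply step
    intro j
    have e2 : B (∑ i, c i • w i) (nil s (w j)) = B (∑ i, c i • v i) (nil t (v j)) := by
      rw [map_sum, map_sum, LinearMap.sum_apply, LinearMap.sum_apply]
      refine Finset.sum_congr rfl fun i _ => ?_
      rw [LinearMap.map_smulₛₗ₂, LinearMap.map_smulₛₗ₂, hG]
    have e3 : B (∑ i, c i • v i) (nil t (v j)) = B x (nil t (v j)) := by
      rw [ht.adj, ht.adj, map_sum]
      simp only [map_smul]
      rw [hc]
    rw [e2, e3, ← hgv, hg]
  have h1 := key x
  rw [nil_apply, nil_apply, map_sub] at h1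
  exact sub_left_inj.1 h1

/-- A family whose Gram matrix for `b` is non-degenerate gives linearly independent
`nil t (v i)`. -/
theorem linearIndependent_nil {ι : Type*} [Fintype ι] {v : ι → V}
    (hG : ∀ c : ι → F, (∀ i, ∑ j, c j * B (v i) (nil t (v j)) = 0) → c = 0) :
    LinearIndependent F fun i => nil t (v i) := by
  rw [Fintype.linearIndependent_iff]
  intro c hc
  have := hG c (by
    intro i
    have h1 : B (v i) (∑ j, c j • nil t (v j)) = 0 := by rw [hc, map_zero]
    rw [map_sum] at h1
    rw [← h1]
    exact Finset.sum_congr rfl fun j _ => by rw [map_smul, smul_eq_mul])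
  intro i
  rw [this]
  rfl

/-- The case of the Gram matrix of an involution `τ`. -/
theorem linearIndependent_perm {ι : Type*} [Fintype ι] [DecidableEq ι] {τ : ι → ι}
    (hτ : ∀ i, τ (τ i) = i) {v : ι → V}
    (hv : ∀ i j, form B t (v i) (v j) = if i = τ j then 1 else 0) :
    LinearIndependent F fun i => nil t (v i) := by
  apply linearIndependent_nil (B := B)
  intro c hc
  funext i
  have h1 := hc (τ i)
  have h2 : ∀ j, B (v (τ i)) (nil t (v j)) = if τ i = τ j then 1 else 0 := fun j => hv _ _
  simp only [h2, mul_ite, mul_one, mul_zero] at h1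
  rw [Finset.sum_eq_single i] at h1
  · rwa [if_pos rfl] at h1
  · intro j _ hj
    rw [if_neg]
    intro h
    exact hj (by rw [← hτ j, ← h, hτ])
  · intro h
    exact absurd (Finset.mem_univ _) h

/-- linearly independent vectors `nil t (v i)`, as many as the rank, span the image. -/
theorem mem_span_of_card [FiniteDimensional F V] {ι : Type*} [Fintype ι] {v : ι → V}
    (hli : LinearIndependent F fun i => nil t (v i))
    (hc : finrank F (LinearMap.range (nil t)) = Fintype.card ι) (y : V) :
    nil t y ∈ Submodule.span F (Set.range fun i => nil t (v i)) := by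
  have hle : Submodule.span F (Set.range fun i => nil t (v i)) ≤ LinearMap.range (nil t) := by
    rw [Submodule.span_le]
    rintro _ ⟨i, rfl⟩
    exact ⟨v i, rfl⟩
  have := Submodule.eq_of_le_of_finrank_eq hle (by
    rw [hc, finrank_span_eq_card hli])
  rw [this]
  exact ⟨y, rfl⟩

/-- The projection of `x` to the orthogonal complement of a family with Gram matrix the
permutation matrix of the involution `τ`. -/
theorem orth_proj (b : V →ₛₗ[σ] V →ₗ[F] F) {ι : Type*} [Fintype ι] [DecidableEq ι] {τ : ι → ι}
    (hτ : ∀ i, τ (τ i) = i) {v : ι → V} (hv : ∀ i j, b (v i) (v j) = if i = τ j then 1 else 0)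
    (x : V) (i : ι) : b (v i) (x - ∑ j, b (v (τ j)) x • v j) = 0 := by
  rw [map_sub, map_sum]
  simp only [map_smul, hv, smul_eq_mul, mul_ite, mul_one, mul_zero]
  rw [Finset.sum_eq_single (τ i)]
  · rw [hτ, if_pos rfl, sub_self]
  · intro j _ hj
    rw [if_neg]
    rintro rfl
    exact hj (hτ j).symm
  · intro h
    exact absurd (Finset.mem_univ _) h

/-- Projection step: if `b (v i) (v j) = [i = τ j]`, `τ` an involution, and there are fewer vectors
than the rank, there are `x, y` orthogonal to the `v i` for `b` with `b x y ≠ 0`. -/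
theorem exists_orth [FiniteDimensional F V] (hnd : B.Nondegenerate)
    {ι : Type*} [Fintype ι] [DecidableEq ι] {τ : ι → ι} (hτ : ∀ i, τ (τ i) = i) {v : ι → V}
    (hv : ∀ i j, form B t (v i) (v j) = if i = τ j then 1 else 0)
    (hc : Fintype.card ι < finrank F (LinearMap.range (nil t))) :
    ∃ x y, (∀ i, form B t (v i) x = 0) ∧ (∀ i, form B t (v i) y = 0) ∧ form B t x y ≠ 0 := by
  by_contra hcon
  push Not at hcon
  have h1 : ∀ x y, form B t (x - ∑ j, form B t (v (τ j)) x • v j)
      (y - ∑ j, form B t (v (τ j)) y • v j) = 0 := fun x y =>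
    hcon _ _ (fun i => orth_proj (form B t) hτ hv x i)
      (fun i => orth_proj (form B t) hτ hv y i)
  have h2 : ∀ x y, form B t x (y - ∑ j, form B t (v (τ j)) y • v j) = 0 := by
    intro x y
    have h3 := h1 x y
    rw [LinearMap.map_sub₂, map_sum, LinearMap.sum_apply] at h3
    have h4 : ∑ j, form B t (form B t (v (τ j)) x • v j)
        (y - ∑ j, form B t (v (τ j)) y • v j) = 0 := by
      refine Finset.sum_eq_zero fun j _ => ?_
      rw [LinearMap.map_smulₛₗ₂, orth_proj (form B t) hτ hv y j, smul_zero]
    rwa [h4, sub_zero] at h3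
  have h5 : ∀ y, nil t y ∈ Submodule.span F (Set.range fun i => nil t (v i)) := by
    intro y
    have h6 : nil t (y - ∑ j, form B t (v (τ j)) y • v j) = 0 := by
      apply hnd.2
      intro x
      exact h2 x y
    rw [map_sub, sub_eq_zero, map_sum] at h6
    rw [h6]
    exact Submodule.sum_mem _ fun i _ => by
      rw [map_smul]
      exact Submodule.smul_mem _ _ (Submodule.subset_span ⟨i, rfl⟩)
  have h7 : LinearMap.range (nil t) ≤ Submodule.span F (Set.range fun i => nil t (v i)) := by
    rintro _ ⟨y, rfl⟩
    exact h5 y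
  have h8 := Submodule.finrank_mono h7
  have h9 := finrank_range_le_card (R := F) (fun i => nil t (v i))
  rw [Set.finrank] at h9
  omega

/-- **Hermitian case**: orthonormal families for `b`. -/
theorem exists_orthonormal [Finite F] [FiniteDimensional F V] (hσ : σ ≠ RingHom.id F)
    (hσ2 : ∀ a : F, σ (σ a) = a) (hS : B.IsSymm) (hnd : B.Nondegenerate) (ht : Sq B t) (k : ℕ)
    (hk : k ≤ finrank F (LinearMap.range (nil t))) :
    ∃ v : Fin k → V, ∀ i j, form B t (v i) (v j) = if i = j then 1 else 0 := by
  have hsym := ht.form_symm hS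
  induction k with
  | zero => exact ⟨Fin.elim0, fun i => Fin.elim0 i⟩
  | succ k ih =>
    obtain ⟨v, hv⟩ := ih (by omega)
    obtain ⟨x, y, hx, hy, hxy⟩ := exists_orth (τ := id) hnd (fun _ => rfl) hv (by rw [Fintype.card_fin]; omega)
    obtain ⟨a, c, hu⟩ :=
      ClassicalGeometry.HermOrthonormal.exists_unit_vector hσ hσ2 (form B t) hsym hxy
    set u := a • x + c • y with hu'
    have huv : ∀ i, form B t (v i) u = 0 := by
      intro i
      rw [hu', map_add, map_smul, map_smul, hx, hy, smul_zero, smul_zero, add_zero]
    have huv' : ∀ i, form B t u (v i) = 0 := fun i => by rw [← hsym.eq (v i) u, huv, map_zero]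
    refine ⟨Fin.cons u v, fun i j => ?_⟩
    refine Fin.cases ?_ (fun i => ?_) i <;> refine Fin.cases ?_ (fun j => ?_) j
    · simpa using hu
    · simpa [Fin.succ_ne_zero, eq_comm] using huv' j
    · simpa [Fin.succ_ne_zero] using huv i
    · simpa using hv i j

end Generic

section Two

variable {F V : Type*} [Field F] [AddCommGroup V] [Module F V]
variable {B : LinearMap.BilinForm F V} {t : V →ₗ[F] V}

/-- **Symmetric case, characteristic two, not alternating**: orthonormal families for `b`. -/
theorem exists_orthonormal_two [FiniteDimensional F V] (h2 : (2 : F) = 0)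
    (hsq : ∀ a : F, ∃ c : F, c * c = a) (hS : LinearMap.IsSymm B) (hnd : B.Nondegenerate)
    (ht : Sq B t) (hna : ∃ x, form B t x x ≠ 0) (k : ℕ)
    (hk : k ≤ finrank F (LinearMap.range (nil t))) :
    ∃ v : Fin k → V, ∀ i j, form B t (v i) (v j) = if i = j then 1 else 0 := by
  have hsym := ht.form_symm hS
  have hsy : ∀ x y, form B t x y = form B t y x := fun x y => by
    have := hsym.eq x y
    simpa using this
  -- scaling
  have hscale : ∀ z, form B t z z ≠ 0 → ∃ a : F, form B t (a • z) (a • z) = 1 := by
    intro z hz
    obtain ⟨c, hc⟩ := hsq (form B t z z)⁻¹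
    refine ⟨c, ?_⟩
    rw [map_smul, LinearMap.map_smul₂, smul_smul, hc, smul_eq_mul, inv_mul_cancel₀ hz]
  induction k with
  | zero => exact ⟨Fin.elim0, fun i => Fin.elim0 i⟩
  | succ k ih =>
    obtain ⟨v, hv⟩ := ih (by omega)
    by_cases hz : ∃ z, (∀ i, form B t (v i) z = 0) ∧ form B t z z ≠ 0
    · obtain ⟨z, hzv, hz⟩ := hz
      obtain ⟨a, ha⟩ := hscale z hz
      have huv : ∀ i, form B t (v i) (a • z) = 0 := fun i => by rw [map_smul, hzv, smul_zero]
      have huv' : ∀ i, form B t (a • z) (v i) = 0 := fun i => by rw [hsy, huv]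
      refine ⟨Fin.cons (a • z) v, fun i j => ?_⟩
      refine Fin.cases ?_ (fun i => ?_) i <;> refine Fin.cases ?_ (fun j => ?_) j
      · simpa using ha
      · simpa [Fin.succ_ne_zero, eq_comm] using huv' j
      · simpa [Fin.succ_ne_zero] using huv i
      · simpa using hv i j
    · push Not at hz
      obtain ⟨x, y, hx, hy, hxy⟩ := exists_orth (τ := id) hnd (fun _ => rfl) hv (by rw [Fintype.card_fin]; omega)
      cases k with
      | zero =>
        obtain ⟨x, hx⟩ := hna
        exact absurd (hz x (fun i => Fin.elim0 i)) hx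
      | succ k =>
        set e := x with he
        set f := (form B t x y)⁻¹ • y with hf
        have hef : form B t e f = 1 := by
          rw [hf, map_smul, smul_eq_mul, inv_mul_cancel₀ hxy]
        have hfe : form B t f e = 1 := by rw [hsy, hef]
        have hve : ∀ i, form B t (v i) e = 0 := hx
        have hvf : ∀ i, form B t (v i) f = 0 := fun i => by rw [hf, map_smul, hy, smul_zero]
        have hev : ∀ i, form B t e (v i) = 0 := fun i => by rw [hsy, hve]
        have hfv : ∀ i, form B t f (v i) = 0 := fun i => by rw [hsy, hvf]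
        have hee : form B t e e = 0 := hz e hve
        have hff : form B t f f = 0 := hz f hvf
        -- `v 0` is replaced by `v 0 + e` and `v 0 + f` is added
        set u := v 0 + f with hu
        set v' : Fin (k + 1) → V := fun i => v i + (if i = 0 then e else 0) with hv'
        have h11 : (1 : F) + 1 = 0 := by rw [one_add_one_eq_two, h2]
        have huu : form B t u u = 1 := by
          rw [hu, map_add, LinearMap.map_add₂, LinearMap.map_add₂, hv, hvf, hfv, hff]
          simp
        have huv : ∀ i, form B t u (v' i) = 0 := by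
          intro i
          rw [hv', hu]
          simp only [map_add, LinearMap.add_apply]
          rw [hv, hfv]
          by_cases hi : i = 0
          · subst hi
            simp only [if_true, hve, hfe]
            rw [add_zero, zero_add, h11]
          · simp only [if_neg hi, map_zero, add_zero, if_neg (Ne.symm hi)]
        have hvu : ∀ i, form B t (v' i) u = 0 := fun i => by rw [hsy, huv]
        have hvv : ∀ i j, form B t (v' i) (v' j) = if i = j then 1 else 0 := by
          intro i j
          rw [hv']
          simp only [map_add, LinearMap.add_apply]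
          rw [hv]
          have e1 : form B t (v i) (if j = 0 then e else 0) = 0 := by
            split_ifs
            · exact hve i
            · exact map_zero _
          have e2 : form B t (if i = 0 then e else 0) (v j) = 0 := by
            split_ifs
            · exact hev j
            · rw [map_zero, LinearMap.zero_apply]
          have e3 : form B t (if i = 0 then e else 0) (if j = 0 then e else 0) = 0 := by
            split_ifs
            · exact hee
            · exact map_zero _
            · rw [map_zero, LinearMap.zero_apply]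
            · exact map_zero _
          rw [e1, e2, e3]
          simp
        refine ⟨Fin.cons u v', fun i j => ?_⟩
        refine Fin.cases ?_ (fun i => ?_) i <;> refine Fin.cases ?_ (fun j => ?_) j
        · simpa using huu
        · simpa [Fin.succ_ne_zero, eq_comm] using huv j
        · simpa [Fin.succ_ne_zero] using hvu i
        · simpa using hvv i j

/-- **Alternating case**: symplectic families for `b`. -/
theorem exists_symplectic [FiniteDimensional F V]
    (hS : LinearMap.IsSymm B) (hnd : B.Nondegenerate)
    (ht : Sq B t) (ha : ∀ x, form B t x x = 0) (r : ℕ)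
    (hr : 2 * r ≤ finrank F (LinearMap.range (nil t)) + 1) :
    ∃ v : Fin r ⊕ Fin r → V, ∀ i j, form B t (v i) (v j) = if i = Sum.swap j then 1 else 0 := by
  have hsym := ht.form_symm hS
  have hsy : ∀ x y, form B t x y = form B t y x := fun x y => by
    have := hsym.eq x y
    simpa using this
  induction r with
  | zero =>
    refine ⟨fun i => 0, fun i => ?_⟩
    rcases i with i | i <;> exact Fin.elim0 i
  | succ r ih =>
    obtain ⟨v, hv⟩ := ih (by omega)
    obtain ⟨x, y, hx, hy, hxy⟩ := exists_orth (τ := Sum.swap) hnd (fun i => Sum.swap_swap i) hv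
      (by rw [Fintype.card_sum, Fintype.card_fin]; omega)
    set e := x with he
    set f := (form B t x y)⁻¹ • y with hf
    have hef : form B t e f = 1 := by
      rw [hf, map_smul, smul_eq_mul, inv_mul_cancel₀ hxy]
    have hfe : form B t f e = 1 := by rw [hsy, hef]
    have hve : ∀ i, form B t (v i) e = 0 := hx
    have hvf : ∀ i, form B t (v i) f = 0 := fun i => by rw [hf, map_smul, hy, smul_zero]
    have hev : ∀ i, form B t e (v i) = 0 := fun i => by rw [hsy, hve]
    have hfv : ∀ i, form B t f (v i) = 0 := fun i => by rw [hsy, hvf]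
    have hee : form B t e e = 0 := ha e
    have hff : form B t f f = 0 := ha f
    refine ⟨Sum.elim (Fin.cons e (fun i => v (.inl i))) (Fin.cons f (fun i => v (.inr i))), ?_⟩
    intro i j
    rcases i with i | i <;> rcases j with j | j <;>
      refine Fin.cases ?_ (fun i => ?_) i <;> refine Fin.cases ?_ (fun j => ?_) j <;>
      simp [hee, hff, hef, hfe, hve, hvf, hev, hfv, hv, Fin.succ_ne_zero, (Fin.succ_ne_zero _).symm]

/-- In characteristic two `t - 1` has square zero. -/
theorem nil_nil (h2 : (2 : F) = 0) (ht : ∀ x, t (t x) = x) (x : V) : nil t (nil t x) = 0 := by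
  rw [nil_apply, nil_apply, map_sub, ht]
  have : x - t x - (t x - x) = (2 : F) • (x - t x) := by rw [two_smul]; abel
  rw [this, h2, zero_smul]

/-- The rank of `t - 1` is even if `b` is alternating. -/
theorem exists_symplectic_eq [FiniteDimensional F V]
    (hS : LinearMap.IsSymm B) (hnd : B.Nondegenerate)
    (ht : Sq B t) (ha : ∀ x, form B t x x = 0) :
    ∃ r, finrank F (LinearMap.range (nil t)) = 2 * r ∧
      ∃ v : Fin r ⊕ Fin r → V, ∀ i j, form B t (v i) (v j) = if i = Sum.swap j then 1 else 0 := by
  set n := finrank F (LinearMap.range (nil t)) with hn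
  obtain ⟨v, hv⟩ := exists_symplectic hS hnd ht ha ((n + 1) / 2) (by omega)
  have h1 := linearIndependent_perm (fun i => Sum.swap_swap i) hv
  have h2 : Fintype.card (Fin ((n + 1) / 2) ⊕ Fin ((n + 1) / 2)) ≤ n := by
    have hle : Submodule.span F (Set.range fun i => nil t (v i)) ≤ LinearMap.range (nil t) := by
      rw [Submodule.span_le]
      rintro _ ⟨i, rfl⟩
      exact ⟨v i, rfl⟩
    rw [← finrank_span_eq_card h1]
    exact Submodule.finrank_mono hle
  rw [Fintype.card_sum, Fintype.card_fin] at h2
  exact ⟨(n + 1) / 2, by omega, v, hv⟩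

end Two

section Families

variable {F V : Type*} [Field F] [AddCommGroup V] [Module F V] {σ : F →+* F}
variable {B : V →ₛₗ[σ] V →ₗ[F] F}

/-- The linear map `span x → V` with `x i ↦ y i` preserves the form if the Gram matrices agree. -/
theorem exists_map_family {ι : Type*} [Fintype ι] {x y : ι → V} (hx : LinearIndependent F x)
    (hy : LinearIndependent F y) (hG : ∀ i j, B (y i) (y j) = B (x i) (x j)) :
    ∃ φ : Submodule.span F (Set.range x) ≃ₗ[F] Submodule.span F (Set.range y),
      (∀ u u', B (φ u : V) (φ u' : V) = B (u : V) (u' : V)) ∧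
      ∀ i, (φ ⟨x i, Submodule.subset_span ⟨i, rfl⟩⟩ : V) = y i := by
  set bx := Basis.span hx with hbx
  set bY := Basis.span hy with hbY
  have h1 : ∀ i, (bx i : V) = x i := fun i => by rw [hbx, Basis.span_apply]
  have h2 : ∀ i, (bY i : V) = y i := fun i => by rw [hbY, Basis.span_apply]
  set φ := bx.equiv bY (Equiv.refl ι) with hφ
  have h3 : ∀ i, φ (bx i) = bY i := fun i => by rw [hφ, Basis.equiv_apply]; rfl
  refine ⟨φ, ?_, ?_⟩
  · intro u u'
    have e : ∀ u, (φ u : V) = ∑ i, bx.repr u i • y i := by
      intro u
      conv_lhs => rw [← bx.sum_repr u, map_sum]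
      rw [AddSubmonoidClass.coe_finsetSum]
      refine Finset.sum_congr rfl fun i _ => ?_
      rw [map_smul, h3, Submodule.coe_smul, h2]
    have e' : ∀ u : Submodule.span F (Set.range x), (u : V) = ∑ i, bx.repr u i • x i := by
      intro u
      conv_lhs => rw [← bx.sum_repr u]
      rw [AddSubmonoidClass.coe_finsetSum]
      refine Finset.sum_congr rfl fun i _ => ?_
      rw [Submodule.coe_smul, h1]
    rw [e u, e u', e' u, e' u']
    simp only [map_sum, LinearMap.sum_apply, LinearMap.map_smulₛₗ₂, map_smul, hG]
  · intro i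
    have : (⟨x i, Submodule.subset_span ⟨i, rfl⟩⟩ : Submodule.span F (Set.range x)) = bx i :=
      Subtype.ext (h1 i).symm
    rw [this, h3, h2]

end Families

end Cfsg.Agent.H80
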